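import Cfsg.Agent.MK.C.Pair
import Cfsg.Agent.MK.H.Hat
import Cfsg.Agent.H671.Link
import Cfsg.Agent.H624.MGroupA
import Cfsg.Agent.S0188

/-!
# MK, step C: product characters on one side (helper17)

`Side c U Y` : a subgroup `U` of `G` and a group `Y` embedded in `X` such that `U ⊓ (Z * ∏ X i) = Z * ∏ Y i`.
The characters of `Z × (ι → Y)` under the odd characters of `U` over `l` are the products `Th m ϑ`.
-/

set_option autoImplicit false
set_option maxHeartbeats 400000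
set_option linter.unusedSectionVars false

namespace Cfsg.Agent.MK.C

open Cfsg Subgroup
open Cfsg.Agent.Characters.Core Cfsg.Agent.H672 Cfsg.Agent.MK.H
open scoped ComplexConjugate

section gen

/-- central characters agree along `Over` -/
theorem cen_of_over {A D : Type} [Group A] [Group D] [Finite A] [Finite D] {f : D →* A} {χ : A → ℂ}
    (hχ : IsIrrCharacter A χ) {Θ : D → ℂ} (hΘ : IsIrrCharacter D Θ) (h : Over f χ Θ) {z : D} (hz : z ∈ center D)
    (hz' : f z ∈ center A) : Θ z * χ 1 = χ (f z) * Θ 1 := by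
  have := Fintype.ofFinite D
  obtain ⟨a, ha, -⟩ := ODD.Red.exists_central hχ hz'
  obtain ⟨b, hb, -⟩ := ODD.Red.exists_central hΘ hz
  have h0 : ∑ d, χ (f d) * conj (Θ d) ≠ 0 := right_ne_zero_of_mul ((over_iff _ _ _).1 h)
  have h1 : ∑ d, χ (f (z * d)) * conj (Θ d) = a * ∑ d, χ (f d) * conj (Θ d) := by
    rw [Finset.mul_sum]
    exact Finset.sum_congr rfl fun d _ => by rw [map_mul, ha, mul_assoc]
  have h2 : ∑ d, χ (f (z * d)) * conj (Θ d) = b * ∑ d, χ (f d) * conj (Θ d) := by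
    rw [Finset.mul_sum, ← Equiv.sum_comp (Equiv.mulLeft z⁻¹)]
    refine Finset.sum_congr rfl fun d _ => ?_
    rw [Equiv.coe_mulLeft, mul_inv_cancel_left, ← isCharacter_apply_inv (isIrr_isCharacter hΘ),
      ← isCharacter_apply_inv (isIrr_isCharacter hΘ), mul_inv_rev, inv_inv, mem_center_iff.1 hz, hb]
    ring
  have h3 : a = b := mul_right_cancel₀ h0 (h1.symm.trans h2)
  have h4 := ha 1
  have h5 := hb 1
  rw [mul_one] at h4 h5
  rw [h4, h5, h3]
  ring

/-- proportional irreducible characters are equal -/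
theorem eq_of_prop {A : Type} [Group A] [Finite A] {χ ψ : A → ℂ} (hχ : IsIrrCharacter A χ) (hψ : IsIrrCharacter A ψ)
    {a b : ℂ} (ha : a ≠ 0) (h : ∀ x, χ x * a = ψ x * b) : χ = ψ := by
  have := Fintype.ofFinite A
  by_contra hne
  have h1 : a • χ = b • ψ := funext fun x => by simp only [Pi.smul_apply, smul_eq_mul, mul_comm a, mul_comm b, h]
  have h2 := congrArg (classInner · χ) h1
  simp only [classInner_smul_left, classInner_irr_self hχ, classInner_irr_ne hψ hχ (Ne.symm hne), mul_one,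
    mul_zero] at h2
  exact ha h2

/-- a subgroup of odd index over `N` contains the `2`-elements if the quotient by `N` has a normal Sylow subgroup -/
theorem two_mem {A : Type} [Group A] [Finite A] {N R S : Subgroup A} [N.Normal] [R.Normal] (hNS : N ≤ S)
    (hR : ∀ g ∈ R, ∃ k : ℕ, g ^ 2 ^ k ∈ N) (hS : Odd S.index) : R ≤ S := by
  let f := QuotientGroup.mk' N
  have hf : Function.Surjective f := QuotientGroup.mk'_surjective N
  obtain ⟨P, -, hP1, hP2, hP3⟩ := exists_syl (H := S.map f) (Q := ⊥) bot_le IsPGroup.of_bot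
  obtain ⟨Q, hQ⟩ := exists_sylow hP2 (by
    rw [← relIndex_mul_index hP1]
    exact hP3.mul (hS.of_dvd_nat (index_map_dvd S hf)))
  have := ‹R.Normal›.map f hf
  have h1 : IsPGroup 2 (R.map f) := by
    rintro ⟨_, g, hg, rfl⟩
    obtain ⟨k, hk⟩ := hR g hg
    exact ⟨k, Subtype.ext (by
      change f g ^ 2 ^ k = 1
      rw [← map_pow]
      exact (QuotientGroup.eq_one_iff _).2 hk)⟩
  have h2 : R.map f ≤ S.map f := (h1.le_sylow_of_normal Q).trans (hQ ▸ hP1)
  intro g hg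
  have h3 : g ∈ (S.map f).comap f := h2 ⟨g, hg, rfl⟩
  rwa [comap_map_eq, QuotientGroup.ker_mk', sup_eq_left.2 hNS] at h3

theorem mem_of_two {A : Type} [Group A] {R : Subgroup A} [R.Normal] (hR : Odd R.index) {g : A} {k : ℕ}
    (hg : g ^ 2 ^ k = 1) : g ∈ R := by
  rw [← QuotientGroup.eq_one_iff, ← orderOf_eq_one_iff]
  refine Nat.eq_one_of_dvd_coprimes ((Nat.coprime_two_left.2 hR).pow_left k) (orderOf_dvd_of_pow_eq_one ?_)
    (orderOf_dvd_natCard _)
  rw [← QuotientGroup.mk_pow, hg, QuotientGroup.mk_one]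

/-- the index of a subgroup in a supplement -/
theorem index_comap_eq {A B : Type} [Group A] [Group B] (f : B →* A) (S : Subgroup A)
    (h : ∀ a, ∃ s ∈ S, ∃ b, a = s * f b) : (S.comap f).index = S.index := by
  refine Nat.card_eq_of_bijective (Quotient.map' f fun x y hxy => ?_) ⟨?_, ?_⟩
  · rw [QuotientGroup.leftRel_apply] at hxy ⊢
    rwa [mem_comap, map_mul, map_inv] at hxy
  · intro x y
    induction x using QuotientGroup.induction_on
    induction y using QuotientGroup.induction_on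
    intro hxy
    have h1 := QuotientGroup.eq.1 hxy
    exact QuotientGroup.eq.2 (by rwa [mem_comap, map_mul, map_inv])
  · intro x
    induction x using QuotientGroup.induction_on with
    | H a =>
      obtain ⟨s, hs, b, e⟩ := h a⁻¹
      refine ⟨(b⁻¹ : B), QuotientGroup.eq.2 ?_⟩
      rw [map_inv, inv_inv, ← inv_inv a, e, mul_inv_rev, mul_inv_cancel_left]
      exact inv_mem hs

end gen

/-- the product character -/
noncomputable def Th {Z Y ι : Type} [Group Z] [Fintype ι] (m : Z →* ℂˣ) (ϑ : ι → Y → ℂ) : Z × (ι → Y) → ℂ :=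
  fun d => m d.1 * ∏ i, ϑ i (d.2 i)

section th

variable {Z Y ι : Type} [Group Z] [Group Y] [Fintype ι] (m : Z →* ℂˣ)

theorem Th_one (ϑ : ι → Y → ℂ) : Th m ϑ 1 = ∏ i, ϑ i 1 := by simp [Th]

theorem Th_single [DecidableEq ι] (ϑ : ι → Y → ℂ) (i : ι) (y : Y) :
    Th m ϑ (1, Pi.mulSingle i y) = ϑ i y * ∏ j ∈ Finset.univ.erase i, ϑ j 1 := by
  change m 1 * ∏ j, ϑ j ((Pi.mulSingle i y : ι → Y) j) = _
  rw [map_one, Units.val_one, one_mul, ← Finset.mul_prod_erase _ _ (Finset.mem_univ i), Pi.mulSingle_eq_same]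
  congr 1
  exact Finset.prod_congr rfl fun j hj => by rw [Pi.mulSingle_eq_of_ne (Finset.ne_of_mem_erase hj)]

variable [Finite Z] [Finite Y]

theorem Th_irr {ϑ : ι → Y → ℂ} (h : ∀ i, IsIrrCharacter Y (ϑ i)) : IsIrrCharacter _ (Th m ϑ) :=
  (S0188.result _).2 ⟨lf m, _, isIrr_lf m, H671.Link.isIrr_pi h, rfl⟩

theorem Th_deg {ϑ : ι → Y → ℂ} (h : ∀ i, IsIrrCharacter Y (ϑ i)) : charDegree (Th m ϑ) = ∏ i, charDegree (ϑ i) := by
  refine charDegree_of_eq ?_
  rw [Th_one, Nat.cast_prod]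
  exact Finset.prod_congr rfl fun i _ => (coe_charDegree (h i)).symm

theorem Th_odd {ϑ : ι → Y → ℂ} (h : ∀ i, IsIrrCharacter Y (ϑ i)) :
    Odd (charDegree (Th m ϑ)) ↔ ∀ i, Odd (charDegree (ϑ i)) := by
  rw [Th_deg m h]
  refine ⟨fun ho i => ho.of_dvd_nat (Finset.dvd_prod_of_mem _ (Finset.mem_univ i)), fun ho => ?_⟩
  exact Finset.prod_induction _ Odd (fun _ _ => Odd.mul) odd_one fun i _ => ho i

omit [Finite Z] in
theorem Th_inj {ϑ ϑ' : ι → Y → ℂ} (h : ∀ i, IsIrrCharacter Y (ϑ i)) (h' : ∀ i, IsIrrCharacter Y (ϑ' i))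
    (e : ∀ d, Th m ϑ d = Th m ϑ' d) : ϑ = ϑ' := by
  classical
  funext i
  refine eq_of_prop (h i) (h' i) (a := ∏ j ∈ Finset.univ.erase i, ϑ j 1)
    (Finset.prod_ne_zero_iff.2 fun j _ => isIrr_apply_one_ne_zero (h j)) (b := ∏ j ∈ Finset.univ.erase i, ϑ' j 1) fun y => ?_
  rw [← Th_single m, ← Th_single m, e]

end th

variable {X : Type} [Group X] {Γ : Subgroup (MulAut X)} {G : Type} [Group G] {Z : Subgroup G} {ι : Type}

/-- one side of the comparison -/
structure Side (c : Conf Γ G Z ι) (U : Subgroup G) (Y : Type) [Group Y] where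
  ρ : Y →* X
  inj : Function.Injective ρ
  b : U → ι → MulAut Y
  hb : ∀ u i y, ρ (b u i y) = c.a u i (ρ y)
  mem : ∀ g, c.π g = 1 → (∀ i, ∃ y, c.a g i = MulAut.conj (ρ y)) → g ∈ U
  sup : ∀ u ∈ U, ∀ i x, c.a u i = MulAut.conj x → x ∈ ρ.range
  nc : ∃ x y : X, x * y ≠ y * x

theorem e_cen (c : Conf Γ G Z ι) {z : X} (hz : z ∈ center X) (i j : ι) : c.e i z = c.e j z := by
  obtain ⟨g, h1, h2⟩ := c.onto i j 1 (one_mem _)
  have h := c.ha g i z
  rwa [h1, h2, mem_center_iff.1 (c.cen (e_mem_Z c hz i)) g, mul_inv_cancel_right] at h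

namespace Side

variable {c : Conf Γ G Z ι} {U : Subgroup G} {Y : Type} [Group Y] (s : Side c U Y)

theorem b_mul (u v : U) (i : ι) : s.b (u * v) i = s.b u (c.π v i) * s.b v i := by
  ext y
  refine s.inj ?_
  rw [MulAut.mul_apply, s.hb, s.hb, s.hb, coe_mul, c.a_mul, MulAut.mul_apply]

theorem b_one (i : ι) : s.b 1 i = 1 := by
  ext y
  refine s.inj ?_
  rw [s.hb, coe_one, c.a_one, MulAut.one_apply, MulAut.one_apply]

/-- the conjugate family -/
def cj (u : U) (ϑ : ι → Y → ℂ) : ι → Y → ℂ := fun i y => ϑ (c.π u i) (s.b u i y)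

theorem cj_one (ϑ : ι → Y → ℂ) : s.cj 1 ϑ = ϑ := by
  funext i y
  simp only [cj, s.b_one, coe_one, map_one, Equiv.Perm.one_apply, MulAut.one_apply]

theorem cj_mul (u v : U) (ϑ : ι → Y → ℂ) : s.cj (u * v) ϑ = s.cj v (s.cj u ϑ) := by
  funext i y
  simp only [cj, s.b_mul, coe_mul, map_mul, Equiv.Perm.mul_apply, MulAut.mul_apply]

theorem cj_irr {ϑ : ι → Y → ℂ} (h : ∀ i, IsIrrCharacter Y (ϑ i)) (u : U) (i : ι) : IsIrrCharacter Y (s.cj u ϑ i) :=
  isIrr_comp (s.b u i).toMonoidHom (s.b u i).surjective (h _)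

/-- the stabiliser of a family -/
def st (ϑ : ι → Y → ℂ) : Subgroup U where
  carrier := {u | s.cj u ϑ = ϑ}
  one_mem' := s.cj_one ϑ
  mul_mem' {u v} hu hv := (s.cj_mul u v ϑ).trans (by rw [hu, hv])
  inv_mem' {u} hu := by
    have h := s.cj_mul u u⁻¹ ϑ
    rw [mul_inv_cancel, s.cj_one, hu] at h
    exact h.symm

include s in
theorem zU : Z ≤ U := fun z hz =>
  s.mem z (π_cen c s.nc (c.cen hz)) fun i => ⟨1, by rw [a_cen c s.nc (c.cen hz), map_one, map_one]⟩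

variable [Fintype ι]

/-- the product map -/
noncomputable def q : Z × (ι → Y) →* G :=
  MonoidHom.mk' (fun d => d.1 * pr c fun i => s.ρ (d.2 i)) fun d e => by
    have h : (fun i => s.ρ ((d * e).2 i)) = (fun i => s.ρ (d.2 i)) * fun i => s.ρ (e.2 i) :=
      funext fun i => map_mul _ _ _
    rw [h, map_mul, Prod.fst_mul, coe_mul, mul_assoc, mul_assoc, ← mul_assoc (pr c _) (e.1 : G),
      mem_center_iff.1 (c.cen e.1.2) (pr c _), mul_assoc]

theorem q_apply (d : Z × (ι → Y)) : s.q d = d.1 * pr c fun i => s.ρ (d.2 i) := rfl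

theorem π_q (d : Z × (ι → Y)) : c.π (s.q d) = 1 := by
  rw [q_apply, map_mul, π_cen c s.nc (c.cen d.1.2), π_pr, mul_one]

theorem a_q (d : Z × (ι → Y)) (i : ι) : c.a (s.q d) i = MulAut.conj (s.ρ (d.2 i)) := by
  rw [q_apply, a_mul_pr, a_cen c s.nc (c.cen d.1.2), one_mul]

/-- the product map into `U` -/
noncomputable def f : Z × (ι → Y) →* U := s.q.codRestrict U fun d => s.mem _ (s.π_q d) fun i => ⟨_, s.a_q d i⟩

theorem f_coe (d : Z × (ι → Y)) : (s.f d : G) = s.q d := rfl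

omit [Fintype ι] in
/-- the action on the product -/
def φ (u : U) (d : Z × (ι → Y)) : Z × (ι → Y) := (d.1, fun k => s.b u ((c.π u).symm k) (d.2 ((c.π u).symm k)))

theorem nr : Nr s.f s.φ := fun u d => Subtype.ext (by
  change s.q (s.φ u d) = u * s.q d * (u : G)⁻¹
  rw [q_apply, q_apply, ← mul_assoc, mem_center_iff.1 (c.cen d.1.2), mul_assoc, mul_assoc, ← mul_assoc (u : G),
    conj_pr c u (y := fun i => s.ρ ((s.φ u d).2 i)) fun i => by simp only [φ, Equiv.symm_apply_apply, s.hb]]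
  rfl)

theorem Th_φ (m : Z →* ℂˣ) (ϑ : ι → Y → ℂ) (u : U) (d : Z × (ι → Y)) : Th m ϑ (s.φ u d) = Th m (s.cj u ϑ) d := by
  simp only [Th, φ, cj]
  rw [← Equiv.prod_comp (c.π u)]
  simp only [Equiv.symm_apply_apply]

theorem cj_f {ϑ : ι → Y → ℂ} (h : ∀ i, IsIrrCharacter Y (ϑ i)) (d : Z × (ι → Y)) : s.cj (s.f d) ϑ = ϑ := by
  funext i y
  have h1 : s.b (s.f d) i y = d.2 i * y * (d.2 i)⁻¹ := s.inj (by
    rw [s.hb, f_coe, a_q, MulAut.conj_apply, map_mul, map_mul, map_inv])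
  rw [cj, h1, f_coe, π_q, Equiv.Perm.one_apply]
  exact isIrr_isClassFunction (h i) _ _

theorem mem_range {u : U} (hu : (u : G) ∈ LL c) : u ∈ s.f.range := by
  obtain ⟨z, hz, x, e⟩ := (mem_LL c).1 hu
  choose y hy using fun i => s.sup u u.2 i (x i) (by rw [e, a_mul_pr, a_cen c s.nc (c.cen hz), one_mul])
  exact ⟨(⟨z, hz⟩, y), Subtype.ext (by rw [f_coe, q_apply, e]; simp only [hy])⟩

variable [Finite G] [Finite Y]

theorem mem_st (m : Z →* ℂˣ) {ϑ : ι → Y → ℂ} (h : ∀ i, IsIrrCharacter Y (ϑ i)) (u : U) :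
    u ∈ s.st ϑ ↔ ∀ d, Th m ϑ (s.φ u d) = Th m ϑ d := by
  simp only [s.Th_φ]
  exact ⟨fun hu d => by rw [show s.cj u ϑ = ϑ from hu], fun hu => Th_inj m (s.cj_irr h u) h hu⟩

theorem over_iff_cj (m : Z →* ℂˣ) {χ : U → ℂ} (hχ : IsIrrCharacter U χ) {ϑ ϑ' : ι → Y → ℂ}
    (h : ∀ i, IsIrrCharacter Y (ϑ i)) (h' : ∀ i, IsIrrCharacter Y (ϑ' i)) (ho : Over s.f χ (Th m ϑ)) :
    Over s.f χ (Th m ϑ') ↔ ∃ u, ϑ' = s.cj u ϑ := by
  constructor
  · intro ho'
    obtain ⟨u, hu⟩ := s.nr.exists_conj hχ (Th_irr m h) (Th_irr m h') ho ho'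
    exact ⟨u, Th_inj m h' (s.cj_irr h u) fun d => by rw [hu, s.Th_φ]⟩
  · rintro ⟨u, rfl⟩
    exact s.nr.over_conj hχ (Th_irr m h) ho u fun d => (s.Th_φ m ϑ u d).symm

theorem f_cen (z : Z) : s.f (z, 1) = inclusion s.zU z := Subtype.ext (by
  rw [f_coe, q_apply]
  have h : (fun i => s.ρ ((1 : ι → Y) i)) = 1 := funext fun i => map_one _
  rw [h, map_one, mul_one]
  rfl)

include s in
theorem cen_U {u : U} (hu : (u : G) ∈ Z) : u ∈ center U :=
  mem_center_iff.2 fun v => Subtype.ext (mem_center_iff.1 (c.cen hu) v)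

include s in
theorem cen_D (z : Z) : ((z, 1) : Z × (ι → Y)) ∈ center _ :=
  mem_center_iff.2 fun d => Prod.ext (Subtype.ext (mem_center_iff.1 (c.cen z.2) d.1)) (by simp)

theorem ov_of_over {l : G → ℂ} {m : Z →* ℂˣ} (hm : ∀ z : Z, l z = m z) {χ : U → ℂ} (hχ : IsIrrCharacter U χ)
    {ϑ : ι → Y → ℂ} (h : ∀ i, IsIrrCharacter Y (ϑ i)) (ho : Over s.f χ (Th m ϑ)) : Ov U Z l χ := by
  intro u hu
  have h1 := cen_of_over hχ (Th_irr m h) ho (s.cen_D ⟨u, hu⟩) (by rw [f_cen]; exact s.cen_U hu)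
  rw [f_cen] at h1
  refine mul_right_cancel₀ (isIrr_apply_one_ne_zero (Th_irr m h)) (h1.symm.trans ?_)
  rw [hm ⟨u, hu⟩, Th_one]
  simp only [Th, Pi.one_apply]
  ring

/-- the family under an odd character -/
theorem under {l : G → ℂ} {m : Z →* ℂˣ} (hm : ∀ z : Z, l z = m z) {χ : U → ℂ} (hχ : OI U χ) (hl : Ov U Z l χ) :
    ∃ ϑ : ι → Y → ℂ, (∀ i, OI Y (ϑ i)) ∧ (∀ i y, s.ρ y ∈ center X → ϑ i y = l (c.e i (s.ρ y)) * ϑ i 1) ∧
      (∀ (u : U) (k : ℕ), (u : G) ^ 2 ^ k = 1 → s.cj u ϑ = ϑ) ∧ Over s.f χ (Th m ϑ) := by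
  classical
  obtain ⟨Θ, hΘ, ho⟩ := exists_under (f := s.f) hχ.1
  obtain ⟨μ, ψ, hμ, hψ, e⟩ := (S0188.result Θ).1 hΘ
  obtain ⟨ϑ, h, e'⟩ := H624.MGroup.exists_pi ψ hψ
  have h0 := hχ.one_ne
  have h1 : μ = lf m := eq_of_prop hμ (isIrr_lf m) (mul_ne_zero (isIrr_apply_one_ne_zero hψ) h0)
    (b := χ 1 * Θ 1) fun z => by
      have h2 := cen_of_over hχ.1 hΘ ho (s.cen_D z) (by rw [f_cen]; exact s.cen_U z.2)
      rw [f_cen, hl (inclusion s.zU z) z.2] at h2
      rw [lf_apply, ← hm, ← mul_assoc, ← mul_assoc]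
      refine Eq.trans ?_ h2
      rw [e]
  have h2 : Θ = Th m ϑ := by
    rw [e, h1]
    funext d
    rw [e']
    rfl
  subst h2
  have h3 := Odd.of_dvd_nat hχ.2 (s.nr.dvd hχ.1 hΘ (s.mem_st m h) ho)
  rw [Nat.odd_mul, Th_odd m h] at h3
  refine ⟨ϑ, fun i => ⟨h i, h3.2 i⟩, fun i y hy => ?_, fun u k hu => ?_, ho⟩
  · have h4 : (s.f (1, Pi.mulSingle i y) : G) = c.e i (s.ρ y) := by
      rw [f_coe, q_apply, coe_one, one_mul, ← pr_single]
      congr 1
      funext j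
      exact Pi.apply_mulSingle (fun _ => s.ρ) (fun _ => map_one _) i y j
    have h5 : (s.f (1, Pi.mulSingle i y) : G) ∈ Z := h4 ▸ e_mem_Z c hy i
    have h6 := cen_of_over hχ.1 hΘ ho (z := (1, Pi.mulSingle i y)) (mem_center_iff.2 fun d => Prod.ext (by simp)
      (funext fun j => by
        by_cases hj : j = i
        · subst hj
          refine s.inj ?_
          simp only [Prod.snd_mul, Pi.mul_apply, Pi.mulSingle_eq_same, map_mul]
          exact mem_center_iff.1 hy _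
        · simp [Pi.mulSingle_eq_of_ne hj])) (s.cen_U h5)
    rw [hl _ h5, h4, Th_single, Th_one, ← Finset.mul_prod_erase _ _ (Finset.mem_univ i)] at h6
    refine mul_right_cancel₀ (mul_ne_zero (Finset.prod_ne_zero_iff.2 fun j (_ : j ∈ Finset.univ.erase i) =>
      isIrr_apply_one_ne_zero (h j)) h0) ?_
    rw [← mul_assoc, h6]
    ring
  · obtain ⟨R, hR, -, hR2, hR3⟩ := c.cl
    have := normal_LL c
    exact two_mem (N := (LL c).subgroupOf U) (R := R.subgroupOf U)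
      (fun v hv => by obtain ⟨d, rfl⟩ := s.mem_range hv; exact s.cj_f h d) (fun g hg => hR2 g hg) h3.1
      (mem_of_two hR3 hu)

end Side

end Cfsg.Agent.MK.C
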