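import Cfsg.Agent.MK.C.Side
import Cfsg.Agent.H669.TensExt

/-!
# MK, step C: `stepC : StepC` (helper17)

The families `ϑ : ι → SA Λ l` index the characters of `Z × (ι → X)` and of `Z × (ι → In Λ)` under the odd characters of
`G` and of `hat Λ`. For a family with the stabiliser `T` the characters given by `ExtOn` are tensor induced to the group
`(Z × (ι → X)) ⋊ T`, and the pair lemma applies.
-/

set_option autoImplicit false
set_option maxHeartbeats 400000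
set_option linter.unusedSectionVars false

namespace Cfsg.Agent.MK.C

open Cfsg Subgroup
open Cfsg.Agent.Characters.Core Cfsg.Agent.H672 Cfsg.Agent.MK.H
open scoped ComplexConjugate

/-- tensor induction, orbit by orbit -/
theorem tensor {F ι : Type} [Group F] [Fintype ι] (π : F →* Equiv.Perm ι) (r : ι → ι) (hr : ∀ f i, r (π f i) = r i)
    (A : ι → Type) [∀ o, Group (A o)] (ψ : ∀ o, A o → ℂ) (hψ : ∀ o, IsCharacter (A o) (ψ o)) (w : ∀ o, F → ι → A o)
    (hw : ∀ o f g i, r i = o → w o (f * g) i = w o f (π g i) * w o g i) :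
    ∃ Ψ, IsCharacter F Ψ ∧ ∀ f, π f = 1 → Ψ f = ∏ i, ψ (r i) (w (r i) f i) := by
  classical
  have h : ∀ o, ∃ Ψ, IsCharacter F Ψ ∧ ∀ f, π f = 1 → Ψ f = ∏ i : {i // r i = o}, ψ (r i) (w (r i) f i) := fun o => by
    let π' : F →* Equiv.Perm {i // r i = o} :=
      MonoidHom.mk' (fun f => (π f).subtypePerm fun i => by rw [hr]) fun f g => by
        ext i
        exact congrArg (fun σ : Equiv.Perm ι => σ i) (map_mul π f g)
    obtain ⟨V, _, _, _, ρ, hρ⟩ := H669.TensExt.exists_tensor π' (fun f i => w o f i) (fun f g i => hw o f g i i.2) (hψ o)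
    refine ⟨_, isCharacter_of_rep ρ, fun f hf => ?_⟩
    rw [hρ f (by ext i; simp [π', hf])]
    refine Finset.prod_congr rfl fun i _ => ?_
    obtain ⟨i, rfl⟩ := i
    rfl
  choose Ψ h1 h2 using h
  refine ⟨∏ o, Ψ o, Finset.prod_induction _ _ (fun _ _ => isCharacter_mul) isCharacter_one fun o _ => h1 o,
    fun f hf => ?_⟩
  rw [Finset.prod_apply, ← Fintype.prod_fiberwise r fun i => ψ (r i) (w (r i) f i)]
  exact Finset.prod_congr rfl fun o _ => h2 o f hf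

variable {X : Type} [Group X] {Γ Λ : Subgroup (MulAut X)} {G : Type} [Group G] {Z : Subgroup G} {ι : Type}
  (c : Conf Γ G Z ι)

/-- the side of `G` -/
def sA (hX : ∃ x y : X, x * y ≠ y * x) : Side c (c.hat Γ) X where
  ρ := MonoidHom.id X
  inj := Function.injective_id
  b u i := c.a u i
  hb _ _ _ := rfl
  mem g _ _ i := c.mem g i
  sup _ _ _ x _ := ⟨x, rfl⟩
  nc := hX

variable (Λ) in
/-- the side of `hat Λ` -/
def sB (hX : ∃ x y : X, x * y ≠ y * x) : Side c (c.hat Λ) (In Λ) where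
  ρ := (In Λ).subtype
  inj := Subtype.val_injective
  b u i := rs Λ ⟨c.a u i, u.2 i⟩
  hb _ _ _ := rfl
  mem g _ h i := by
    obtain ⟨y, hy⟩ := h i
    rw [hy]
    exact y.2
  sup u hu i x h := ⟨⟨x, show MulAut.conj x ∈ Λ from h ▸ hu i⟩, rfl⟩
  nc := hX

/-- the action on the product -/
def act : G →* MulAut (Z × (ι → X)) :=
  MonoidHom.mk' (fun g =>
    { toFun := fun d => (d.1, fun k => c.a g ((c.π g).symm k) (d.2 ((c.π g).symm k)))
      invFun := fun d => (d.1, fun i => (c.a g i)⁻¹ (d.2 (c.π g i)))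
      left_inv := fun d => by simp
      right_inv := fun d => by simp
      map_mul' := fun d e => Prod.ext rfl (funext fun k => map_mul _ _ _) }) fun g h => by
    refine MulEquiv.ext fun d => Prod.ext rfl (funext fun k => ?_)
    obtain ⟨k, rfl⟩ := (c.π (g * h)).surjective k
    change c.a (g * h) ((c.π (g * h)).symm (c.π (g * h) k)) (d.2 ((c.π (g * h)).symm (c.π (g * h) k))) =
      c.a g ((c.π g).symm (c.π (g * h) k)) (c.a h ((c.π h).symm ((c.π g).symm (c.π (g * h) k)))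
        (d.2 ((c.π h).symm ((c.π g).symm (c.π (g * h) k)))))
    rw [Equiv.symm_apply_apply, map_mul, Equiv.Perm.mul_apply, Equiv.symm_apply_apply, Equiv.symm_apply_apply, c.a_mul,
      MulAut.mul_apply]

theorem act_snd (g : G) (d : Z × (ι → X)) (i : ι) : (act c g d).2 (c.π g i) = c.a g i (d.2 i) := by
  change c.a g ((c.π g).symm (c.π g i)) (d.2 ((c.π g).symm (c.π g i))) = _
  rw [Equiv.symm_apply_apply]

theorem a_pow {g : G} {i : ι} (h : c.π g i = i) (n : ℕ) : c.π (g ^ n) i = i ∧ c.a (g ^ n) i = c.a g i ^ n := by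
  induction n with
  | zero => rw [pow_zero, pow_zero, map_one, c.a_one]; exact ⟨rfl, rfl⟩
  | succ n ih => rw [pow_succ, pow_succ, map_mul, Equiv.Perm.mul_apply, c.a_mul, h, ih.1, ih.2]; exact ⟨rfl, rfl⟩

variable [Fintype ι]

/-- a `2`-element of `Λ` is induced by a `2`-element -/
theorem exists_two [Finite G] (h : Supp Γ Λ) (i : ι) {α : MulAut X} (hα : α ∈ Λ) {k : ℕ} (hk : α ^ 2 ^ k = 1) :
    ∃ g ∈ c.hat Λ, c.π g i = i ∧ c.a g i = α ∧ ∃ j : ℕ, g ^ 2 ^ j = 1 := by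
  obtain ⟨g, h1, h2, h3⟩ := exists_hat c h i i hα
  obtain ⟨j, t, ht, e⟩ := Nat.exists_eq_two_pow_mul_odd (orderOf_pos g).ne'
  obtain ⟨r, hr⟩ := exists_pow_eq_self_of_coprime (x := α) (n := t)
    (((Nat.coprime_two_right.2 ht).pow_right k).coprime_dvd_right (orderOf_dvd_of_pow_eq_one hk))
  refine ⟨g ^ (t * r), pow_mem h1 _, (a_pow c h2 _).1, by rw [(a_pow c h2 _).2, h3, pow_mul, hr], j, ?_⟩
  rw [← pow_mul, mul_right_comm, mul_comm t, ← e, pow_mul, pow_orderOf_eq_one, one_pow]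

theorem decomp (h : Supp Γ Λ) (g : G) : ∃ w : ι → X, ∃ u ∈ c.hat Λ, g = pr c w * u := by
  choose x β hβ e using fun i => h.sup _ (c.mem g i)
  refine ⟨fun k => x ((c.π g).symm k), pr c (fun k => x ((c.π g).symm k))⁻¹ * g, fun i => ?_, by
    rw [map_inv, mul_inv_cancel_left]⟩
  rw [a_pr_mul, Pi.inv_apply, Equiv.symm_apply_apply, e, map_inv, inv_mul_cancel_left]
  exact hβ i

theorem SA_comp [Finite X] (s : Sit X Γ) (h : Λ ≤ Γ) {l θ : X → ℂ} (hθ : θ ∈ SA Λ l) {α : MulAut X} (hα : α ∈ Λ) :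
    (fun x => θ (α x)) ∈ SA Λ l := by
  refine ⟨hθ.1.comp α.toMonoidHom α.surjective, fun z hz => ?_, fun β hβ ⟨k, hk⟩ x => ?_⟩
  · change θ (α z) = l z * θ (α 1)
    rw [s.fix α (h hα) z hz, map_one, hθ.2.1 z hz]
  · have h1 := hθ.2.2 (α * β * α⁻¹) (mul_mem (mul_mem hα hβ) (inv_mem hα)) ⟨k, by rw [conj_pow, hk]; simp⟩ (α x)
    simpa using h1

section fam

variable [Finite X] [Finite G] {c} (s : Sit X Γ) (h : Supp Γ Λ) {l : X → ℂ} {Ω : (X → ℂ) → In Λ → ℂ} (o : CD Λ l Ω)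
  {ϑ ϑ' : ι → X → ℂ}

theorem decomp' (hX : ∃ x y : X, x * y ≠ y * x) (h : Supp Γ Λ) (g : c.hat Γ) :
    ∃ d, ∃ u : c.hat Λ, g = (sA c hX).f d * inclusion (hat_mono c h.le) u := by
  obtain ⟨w, u, hu, e⟩ := decomp c h g
  exact ⟨(1, w), ⟨u, hu⟩, Subtype.ext (e.trans (congrArg (· * u) (one_mul _).symm))⟩

include o in
theorem cj_om (hX : ∃ x y : X, x * y ≠ y * x) (h : Λ ≤ Γ) (hϑ : ∀ i, ϑ i ∈ SA Λ l) (u : c.hat Λ) :
    (sB Λ c hX).cj u (fun i => Ω (ϑ i)) = fun i => Ω ((sA c hX).cj (inclusion (hat_mono c h) u) ϑ i) :=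
  funext fun i => funext fun y => (o.eqv _ (hϑ _) ⟨c.a u i, u.2 i⟩ y).symm

include s o in
theorem cj_iff (hX : ∃ x y : X, x * y ≠ y * x) (h : Λ ≤ Γ) (hϑ : ∀ i, ϑ i ∈ SA Λ l) (hϑ' : ∀ i, ϑ' i ∈ SA Λ l)
    (u : c.hat Λ) : (fun i => Ω (ϑ' i)) = (sB Λ c hX).cj u (fun i => Ω (ϑ i)) ↔
      ϑ' = (sA c hX).cj (inclusion (hat_mono c h) u) ϑ := by
  rw [cj_om o hX h hϑ]
  exact ⟨fun e => funext fun i => o.bij.injOn (hϑ' i) (SA_comp s h (hϑ _) (u.2 i)) (congrFun e i), fun e => by rw [e]⟩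

include s h o in
/-- the counts over a family -/
theorem fibre (hX : ∃ x y : X, x * y ≠ y * x) (m : Z →* ℂˣ) (hϑ : ∀ i, ϑ i ∈ SA Λ l) :
    Nat.card {χ : c.hat Γ → ℂ // OI _ χ ∧ Over (sA c hX).f χ (Th m ϑ)} =
      Nat.card {η : c.hat Λ → ℂ // OI _ η ∧ Over (sB Λ c hX).f η (Th m fun i => Ω (ϑ i))} := by
  classical
  have hi : ∀ i, IsIrrCharacter X (ϑ i) := fun i => (hϑ i).1.1
  have hi' : ∀ i, IsIrrCharacter (In Λ) (Ω (ϑ i)) := fun i => (o.bij.mapsTo (hϑ i)).1.1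
  let A := sA c hX
  let B := sB Λ c hX
  let ic : c.hat Λ →* c.hat Γ := inclusion (hat_mono c h.le)
  let T : Subgroup (c.hat Λ) := B.st fun i => Ω (ϑ i)
  have hT : ∀ u, u ∈ T ↔ ic u ∈ A.st ϑ := fun u => eq_comm.trans ((cj_iff s o hX h.le hϑ hϑ u).trans eq_comm)
  let φ : T →* MulAut (Z × (ι → X)) := (act c).comp ((c.hat Λ).subtype.comp T.subtype)
  let F := (Z × (ι → X)) ⋊[φ] T
  have : Finite F := Finite.of_equiv _ SemidirectProduct.equivProd.symm
  let p : F →* c.hat Γ := SemidirectProduct.lift A.f (ic.comp T.subtype) fun u =>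
    MonoidHom.ext fun d => A.nr (ic u) d
  let q : F →* c.hat Λ := T.subtype.comp SemidirectProduct.rightHom
  let j : Z × (ι → In Λ) →* Z × (ι → X) := (MonoidHom.id Z).prodMap ((In Λ).subtype.compLeft ι)
  have hj : ∀ e, A.f (j e) = ic (B.f e) := fun e => rfl
  have hj' : ∀ e d, act c (B.f e) d = j e * d * (j e)⁻¹ := fun e d => by
    refine Prod.ext ?_ (funext fun i => ?_)
    · refine Subtype.ext ?_
      change (d.1 : G) = e.1 * d.1 * (e.1 : G)⁻¹
      rw [mem_center_iff.1 (c.cen d.1.2), mul_inv_cancel_right]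
    · have h1 := act_snd c (B.f e) d i
      rw [B.f_coe, B.π_q, B.a_q] at h1
      exact h1
  let t : Z × (ι → In Λ) →* F := MonoidHom.mk' (fun e => ⟨(j e)⁻¹, ⟨B.f e, B.cj_f hi' e⟩⟩) fun e e' => by
    refine SemidirectProduct.ext ?_ (Subtype.ext (map_mul _ _ _))
    change (j (e * e'))⁻¹ = (j e)⁻¹ * act c (B.f e) (j e')⁻¹
    rw [hj', map_mul]
    group
  have e1 : p.comp SemidirectProduct.inl = A.f := SemidirectProduct.lift_comp_inl _ _ _
  have e2 : q.comp t = B.f := rfl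
  have r1 : p.range = A.st ϑ := by
    refine le_antisymm ?_ fun a ha => ?_
    · rintro _ ⟨x, rfl⟩
      exact mul_mem (A.cj_f hi x.left) ((hT _).1 x.right.2)
    · obtain ⟨d, u, rfl⟩ := decomp' hX h a
      exact ⟨⟨d, ⟨u, (hT u).2 ((mul_mem_cancel_left (A.cj_f hi d)).1 ha)⟩⟩, rfl⟩
  have r2 : q.range = T := le_antisymm (by rintro _ ⟨x, rfl⟩; exact x.right.2) fun u hu => ⟨⟨1, ⟨u, hu⟩⟩, rfl⟩
  have r3 : T.index = (A.st ϑ).index := by
    rw [← index_comap_eq ic (A.st ϑ) fun a => by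
      obtain ⟨d, u, e⟩ := decomp' hX h a
      exact ⟨_, A.cj_f hi d, u, e⟩]
    congr 1
    exact Subgroup.ext hT
  -- representatives
  let S : Setoid ι := ⟨fun i k => ∃ β ∈ Λ, ∀ x, ϑ i x = ϑ k (β x), ⟨fun i => ⟨1, one_mem _, fun _ => rfl⟩,
    fun ⟨β, h1, h2⟩ => ⟨β⁻¹, inv_mem h1, fun x => by rw [h2, MulAut.apply_inv_self]⟩,
    fun ⟨β, h1, h2⟩ ⟨γ, h3, h4⟩ => ⟨γ * β, mul_mem h3 h1, fun x => by rw [h2, h4, MulAut.mul_apply]⟩⟩⟩
  let r : ι → ι := fun i => (Quotient.mk S i).out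
  choose β hβ hβ' using fun i => (Quotient.mk_out (s := S) i : ∃ β ∈ Λ, ∀ x, ϑ (r i) x = ϑ i (β x))
  have hβ'' : ∀ i (y : In Λ), Ω (ϑ (r i)) y = Ω (ϑ i) (rs Λ ⟨β i, hβ i⟩ y) := fun i y => by
    rw [← o.eqv _ (hϑ i), ← funext (hβ' i)]
  have hu : ∀ (u : T) i x, ϑ (c.π (u : c.hat Λ) i) (c.a (u : c.hat Λ) i x) = ϑ i x := fun u i x =>
    congrFun (congrFun ((hT _).1 u.2) i) x
  let π : F →* Equiv.Perm ι := c.π.comp ((c.hat Λ).subtype.comp q)
  have hr : ∀ f i, r (π f i) = r i := fun f i =>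
    congrArg Quotient.out (Quotient.sound (S.symm ⟨_, f.right.1.2 i, fun x => (hu f.right i x).symm⟩))
  choose W iW jW tW Ψ hΨ k1 k2 k3 using fun i => o.ext _ (hϑ i)
  let tW' : ∀ i, MulAut X → W i := fun i α => if hα : α ∈ St Λ (ϑ i) then tW i ⟨α, hα⟩ else 1
  let γ : F → ι → MulAut X := fun f i => (β (π f i))⁻¹ * c.a (f.right : c.hat Λ) i * β i
  have hγ : ∀ f i, γ f i ∈ St Λ (ϑ (r i)) := fun f i =>
    ⟨mul_mem (mul_mem (inv_mem (hβ _)) (f.right.1.2 i)) (hβ _), fun x => by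
      conv_lhs => rw [← hr f i, hβ']
      rw [hβ', ← hu f.right i (β i x)]
      simp only [γ, MulAut.mul_apply, MulAut.apply_inv_self]
      rfl⟩
  obtain ⟨Φ, hΦ, hΦ'⟩ := tensor π r hr W Ψ hΨ
    (fun a f i => jW a ((β (π f i))⁻¹ (f.left.2 (π f i)), 1) * tW' a (γ f i)) (fun a f g i ha => by
      subst ha
      have g1 : γ (f * g) i = γ f (π g i) * γ g i := by
        have g0 : c.a ((f * g).right : c.hat Λ) i =
            c.a (f.right : c.hat Λ) (π g i) * c.a (g.right : c.hat Λ) i := c.a_mul _ _ i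
        simp only [γ, map_mul, Equiv.Perm.mul_apply, g0]
        group
      have g2 : (f * g).left.2 (π (f * g) i) =
          f.left.2 (π f (π g i)) * c.a (f.right : c.hat Λ) (π g i) (g.left.2 (π g i)) := by
        rw [map_mul, Equiv.Perm.mul_apply, ← act_snd]
        rfl
      have m1 := hγ (f * g) i
      have m2 := hγ f (π g i)
      have m3 := hγ g i
      rw [hr] at m2
      simp only [tW', dif_pos m1, dif_pos m2, dif_pos m3]
      rw [mul_assoc, ← mul_assoc (tW _ _), k2 (r i) ⟨_, m2⟩ _ 1 1 (map_one _).symm, mul_assoc, ← map_mul, ← mul_assoc,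
        ← map_mul, g2]
      congr 2
      · simp only [γ, map_mul, Equiv.Perm.mul_apply, Prod.mk_mul_mk, mul_one, MulAut.mul_apply, MulAut.apply_inv_self]
      · exact Subtype.ext g1)
  let z : F →* Z := MonoidHom.mk' (fun f => f.left.1) fun _ _ => rfl
  rw [← e1, ← e2]
  refine pair p q SemidirectProduct.inl t ?_ ?_ (φ := A.φ) (φ' := B.φ) (e1 ▸ A.nr) B.nr (Th_irr m hi) (Th_irr m hi')
    (fun a => by rw [r1, A.mem_st m hi]) (fun b => by rw [r2, ← B.mem_st m hi']) (Ψ := lf m ∘ z * Φ)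
    (isCharacter_mul (isCharacter_comp z (isCharacter_lf m)) hΦ) (fun d => ?_) (fun e => ?_) ?_
  · rw [SemidirectProduct.range_inl_eq_ker_rightHom]
    ext x
    exact Subtype.ext_iff
  · refine le_antisymm ?_ fun x hx => ?_
    · rintro _ ⟨e, rfl⟩
      change A.f (j e)⁻¹ * ic (B.f e) = 1
      rw [map_inv, hj, inv_mul_cancel]
    · have h1 : ic x.right = A.f x.left⁻¹ := by
        rw [map_inv]
        exact eq_inv_of_mul_eq_one_right hx
      have h2 : ∀ i, (x.left⁻¹).2 i ∈ In Λ := fun i => by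
        have h3 := x.right.1.2 i
        rw [show ((x.right : c.hat Λ) : G) = A.q x.left⁻¹ from congrArg Subtype.val h1, A.a_q] at h3
        exact h3
      exact ⟨((x.left⁻¹).1, fun i => ⟨_, h2 i⟩), SemidirectProduct.ext (inv_inv _)
        (Subtype.ext (Subtype.ext (congrArg Subtype.val h1).symm))⟩
  · have p1 : π (SemidirectProduct.inl d) = 1 := map_one c.π
    rw [Pi.mul_apply, hΦ' _ p1, Th_one, map_prod, Th, mul_assoc, ← Finset.prod_mul_distrib]
    refine congrArg₂ _ rfl (Finset.prod_congr rfl fun i _ => ?_)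
    have g1 : γ (SemidirectProduct.inl d) i = 1 := by
      simp only [γ, p1, SemidirectProduct.right_inl, coe_one, c.a_one, Equiv.Perm.one_apply, mul_one, inv_mul_cancel]
    simp only [tW', g1, dif_pos (one_mem _), p1, Equiv.Perm.one_apply]
    rw [show (⟨1, one_mem _⟩ : St Λ (ϑ (r i))) = 1 from rfl, map_one, mul_one, k1, hβ', hβ'', map_one,
      MulAut.apply_inv_self]
    rfl
  · have p1 : π (t e) = 1 := B.π_q e
    rw [Pi.mul_apply, hΦ' _ p1, Th_one, Th, map_mul, map_prod, mul_left_comm, ← Finset.prod_mul_distrib]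
    refine congrArg₂ _ (isCharacter_apply_inv (isCharacter_lf m) e.1) (Finset.prod_congr rfl fun i _ => ?_)
    let y : In Λ := rs Λ ⟨β i, hβ i⟩⁻¹ (e.2 i)
    have g1 : γ (t e) i = MulAut.conj (y : X) := by
      have g2 : c.a ((t e).right : c.hat Λ) i = MulAut.conj (e.2 i : X) := B.a_q e i
      simp only [γ, p1, Equiv.Perm.one_apply, g2]
      exact (conj_map (β i)⁻¹ _).symm
    have m1 := hγ (t e) i
    rw [g1] at m1
    simp only [tW', g1, dif_pos m1, p1, Equiv.Perm.one_apply]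
    have g3 : (β i)⁻¹ ((t e).left.2 i) = (y : X)⁻¹ := map_inv _ _
    rw [k3, ← map_mul, g3, Prod.mk_mul_mk, inv_mul_cancel, one_mul, k1, hβ', hβ'', map_one, ← MulAut.mul_apply,
      ← map_mul, mul_inv_cancel, map_one, MulAut.one_apply]
  · rw [r1, r2, r3, Nat.odd_mul, Nat.odd_mul, Th_odd m hi, Th_odd m hi']
    exact and_congr_right fun _ => ⟨fun _ i => (o.bij.mapsTo (hϑ i)).1.2, fun _ i => (hϑ i).1.2⟩

end fam

/-- **the Clifford step** -/
theorem stepC : StepC := by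
  intro X _ _ Γ Λ s h hΩ G _ _ Z ι _ c l hl
  have hX := noncomm s
  obtain ⟨i₀⟩ := c.ne
  obtain ⟨Ω, o⟩ := hΩ (fun x => l (c.e i₀ x)) fun z hz h1 =>
    c.inj i₀ ((hl _ (e_mem_Z c hz i₀) h1).trans (map_one _).symm)
  refine kk_eq_of_hom c.cen (Z_le_hat c hX _) (Z_le_hat c hX _) fun m hm => ?_
  let A := sA c hX
  let B := sB Λ c hX
  let ic : c.hat Λ →* c.hat Γ := inclusion (hat_mono c h.le)
  let I := {ϑ : ι → X → ℂ // ∀ i, ϑ i ∈ SA Λ fun x => l (c.e i₀ x)}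
  have hi : ∀ (x : I) i, IsIrrCharacter X (x.1 i) := fun x i => (x.2 i).1.1
  have hi' : ∀ (x : I) i, IsIrrCharacter (In Λ) (Ω (x.1 i)) := fun x i => (o.bij.mapsTo (x.2 i)).1.1
  have := finite_irr (G := X)
  have : Finite I := Finite.of_injective (fun (x : I) (i : ι) => (⟨x.1 i, hi x i⟩ : IrrCharacter X))
    fun x y e => Subtype.ext (funext fun i => congrArg Subtype.val (congrFun e i))
  have := finite_sub (p := fun ψ => OI (c.hat Γ) ψ ∧ Ov (c.hat Γ) Z l ψ) fun _ h => h.1.1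
  have := finite_sub (p := fun ψ => OI (c.hat Λ) ψ ∧ Ov (c.hat Λ) Z l ψ) fun _ h => h.1.1
  let S : Setoid I := ⟨fun x y => ∃ u, y.1 = A.cj (ic u) x.1, ⟨fun x => ⟨1, by rw [map_one, A.cj_one]⟩,
    fun ⟨u, hu⟩ => ⟨u⁻¹, by rw [hu, ← A.cj_mul, ← map_mul, mul_inv_cancel, map_one, A.cj_one]⟩,
    fun ⟨u, hu⟩ ⟨v, hv⟩ => ⟨u * v, by rw [hv, hu, map_mul, A.cj_mul]⟩⟩⟩
  refine RM.card_eq_of_fibers S (fun χ x => Over A.f χ.1 (Th m x.1)) (fun η x => Over B.f η.1 (Th m fun i => Ω (x.1 i)))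
    (fun χ => ?_) (fun η => ?_) (fun χ x y hx => ?_) (fun η x y hx => ?_) fun x => ?_
  · obtain ⟨ϑ, h1, h2, h3, h4⟩ := A.under hm χ.2.1 χ.2.2
    refine ⟨⟨ϑ, fun i => ⟨h1 i, fun z hz => ?_, fun α hα ⟨k, hk⟩ x => ?_⟩⟩, h4⟩
    · exact (h2 i z hz).trans (congrArg (fun g => l g * ϑ i 1) (e_cen c hz i i₀))
    · obtain ⟨g, g1, g2, rfl, j, g4⟩ := exists_two c h i hα hk
      have h5 := congrFun (congrFun (h3 (ic ⟨g, g1⟩) j g4) i) x
      rw [← h5]
      change _ = ϑ (c.π g i) _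
      rw [g2]
      rfl
  · obtain ⟨ψ, h1, h2, h3, h4⟩ := B.under hm η.2.1 η.2.2
    have h5 : ∀ i, ψ i ∈ SB Λ fun x => l (c.e i₀ x) := fun i => by
      refine ⟨h1 i, fun z hz => ?_, fun α ⟨k, hk⟩ x => ?_⟩
      · exact (h2 i z hz).trans (congrArg (fun g => l g * ψ i 1) (e_cen c hz i i₀))
      · obtain ⟨α, hα⟩ := α
        obtain ⟨g, g1, g2, rfl, j, g4⟩ := exists_two c h i hα (congrArg Subtype.val hk)
        have h5 := congrFun (congrFun (h3 ⟨g, g1⟩ j g4) i) x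
        rw [← h5]
        change _ = ψ (c.π g i) _
        rw [g2]
        rfl
    choose ϑ k1 k2 using fun i => o.bij.surjOn (h5 i)
    exact ⟨⟨ϑ, k1⟩, by rwa [funext k2]⟩
  · rw [A.over_iff_cj m χ.2.1.1 (hi x) (hi y) hx]
    refine ⟨fun ⟨a, ha⟩ => ?_, fun ⟨u, hu⟩ => ⟨_, hu⟩⟩
    obtain ⟨d, u, rfl⟩ := decomp' hX h a
    exact ⟨u, by rw [ha, A.cj_mul, A.cj_f (hi x)]⟩
  · rw [B.over_iff_cj m η.2.1.1 (hi' x) (hi' y) hx]
    exact exists_congr fun u => cj_iff s o hX h.le x.2 y.2 u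
  · refine Eq.trans (Nat.card_congr ?_) ((fibre (c := c) s h o hX m x.2).trans (Nat.card_congr ?_))
    · exact
        { toFun := fun χ => ⟨χ.1.1, χ.1.2.1, χ.2⟩
          invFun := fun χ => ⟨⟨χ.1, χ.2.1, A.ov_of_over hm χ.2.1.1 (hi x) χ.2.2⟩, χ.2.2⟩
          left_inv := fun _ => rfl
          right_inv := fun _ => rfl }
    · exact
        { toFun := fun η => ⟨⟨η.1, η.2.1, B.ov_of_over hm η.2.1.1 (hi' x) η.2.2⟩, η.2.2⟩
          invFun := fun η => ⟨η.1.1, η.1.2.1, η.2⟩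
          left_inv := fun _ => rfl
          right_inv := fun _ => rfl }

end Cfsg.Agent.MK.C
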