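import Cfsg.Agent.MK.Basic
import Cfsg.Agent.H829.GowDesc
import Cfsg.Agent.Characters.Counting

/-!
# MK, step C: Clifford theory along homomorphisms and the pair lemma (helper17)

* `Nr f φ` : `f : D →* A` has a normal range, `φ a` lifts the conjugation by `a`;
* `Nr.deg_eq`, `Nr.exists_conj`, `Nr.over_conj` : Clifford's theorem along `f`;
* `pair` : if a character `Ψ` of a group `F` with two homomorphisms `p₁ : F →* A`, `p₂ : F →* B` restricts to `Θ₁` on
  `ker p₂` and to `conj Θ₂` on `ker p₁`, then the characters over `Θ₁` and over `Θ₂` correspond.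
-/

set_option autoImplicit false
set_option maxHeartbeats 400000

namespace Cfsg.Agent.MK.C

open Cfsg Subgroup
open Cfsg.Agent.Characters.Core Cfsg.Agent.Characters.Clifford Cfsg.Agent.H672 Cfsg.Agent.H829.GowDesc
open scoped ComplexConjugate

section hom

variable {A D : Type} [Group A] [Group D] [Finite A] [Finite D]

/-- a constituent along `f` comes from the range of `f` -/
theorem exists_desc (f : D →* A) {χ : A → ℂ} (hχ : IsIrrCharacter A χ) {Θ : D → ℂ} (hΘ : IsIrrCharacter D Θ)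
    (h : Over f χ Θ) : ∃ θ : f.range → ℂ, IsIrrCharacter f.range θ ∧ θ ∘ f.rangeRestrict = Θ ∧
      Over f.range.subtype χ θ := by
  classical
  have := Fintype.ofFinite D
  obtain ⟨θ, hθ, h1, h2⟩ := (over_comp_iff f.range.subtype f.rangeRestrict (isIrr_isCharacter hχ) hΘ).1 h
  refine ⟨θ, hθ, ?_, h1⟩
  by_contra hne
  exact (over_iff _ _ _).1 h2 (classInner_irr_ne (isIrr_comp _ f.rangeRestrict_surjective hθ) hΘ hne)

/-- `φ a` lifts the conjugation by `a` -/
def Nr (f : D →* A) (φ : A → D → D) : Prop := ∀ a d, f (φ a d) = a * f d * a⁻¹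

variable {f : D →* A} {φ : A → D → D}

omit [Finite A] [Finite D] in
theorem Nr.normal (h : Nr f φ) : f.range.Normal := ⟨fun _ ⟨d, hd⟩ a => ⟨φ a d, hd ▸ h a d⟩⟩

omit [Finite A] [Finite D] in
theorem Nr.rr (h : Nr f φ) (a : A) (d : D) :
    haveI := h.normal
    f.rangeRestrict (φ a d) = MulAut.conjNormal a (f.rangeRestrict d) := Subtype.ext (h a d)

/-- Clifford's degree formula -/
theorem Nr.deg_eq [Fintype D] (h : Nr f φ) {χ : A → ℂ} (hχ : IsIrrCharacter A χ) {Θ : D → ℂ} (hΘ : IsIrrCharacter D Θ)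
    {S : Subgroup A} (hS : ∀ a, a ∈ S ↔ ∀ d, Θ (φ a d) = Θ d) {e : ℕ} (he : classInner (χ ∘ f) Θ = e) (h0 : e ≠ 0) :
    charDegree χ = e * (S.index * charDegree Θ) := by
  classical
  have := h.normal
  have := Fintype.ofFinite A
  have := Fintype.ofFinite f.range
  obtain ⟨θ, hθ, rfl, h2⟩ := exists_desc f hχ hΘ ((over_iff _ _ _).2 (by rw [he]; exact_mod_cast h0))
  have he' : classInner (fun n : f.range => χ n) θ = e := by
    rw [← he, ← classInner_comp_surj f.rangeRestrict f.rangeRestrict_surjective]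
    rfl
  have key := congrFun (CharactersDeep.CliffordSum.restrict_eq_smul_sum f.range hχ hθ
    ((over_subtype_iff _ χ θ).1 h2)) 1
  rw [he'] at key
  simp only [Pi.smul_apply, Finset.sum_apply, smul_eq_mul, OneMemClass.coe_one] at key
  rw [Finset.sum_congr rfl (g := fun _ => θ 1) (by
    intro ψ hψ
    obtain ⟨x, -, rfl⟩ := Finset.mem_image.1 hψ
    simp), Finset.sum_const, nsmul_eq_mul, ← coe_charDegree hχ, ← coe_charDegree hθ] at key
  have hcard := CharactersDeep.CliffordSum.card_conj_mul_card f.range θ S (fun a => by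
    rw [hS]
    constructor
    · intro h3
      funext n
      obtain ⟨d, rfl⟩ := f.rangeRestrict_surjective n
      rw [Function.comp, ← h.rr]
      exact h3 d
    · intro h3 d
      rw [Function.comp, h.rr]
      exact congrFun h3 _)
  rw [Nat.eq_of_mul_eq_mul_right Nat.card_pos (hcard.trans S.index_mul_card.symm)] at key
  rw [deg_comp]
  exact_mod_cast key

theorem Nr.dvd (h : Nr f φ) {χ : A → ℂ} (hχ : IsIrrCharacter A χ) {Θ : D → ℂ} (hΘ : IsIrrCharacter D Θ)
    {S : Subgroup A} (hS : ∀ a, a ∈ S ↔ ∀ d, Θ (φ a d) = Θ d) (ho : Over f χ Θ) :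
    S.index * charDegree Θ ∣ charDegree χ := by
  have := Fintype.ofFinite D
  obtain ⟨e, he⟩ := classInner_isNat (isCharacter_comp f (isIrr_isCharacter hχ)) (isIrr_isCharacter hΘ)
  rw [h.deg_eq hχ hΘ hS he (fun h0 => (over_iff _ _ _).1 ho (by rw [he, h0, Nat.cast_zero]))]
  exact Dvd.intro_left _ rfl

theorem Nr.exists_conj (h : Nr f φ) {χ : A → ℂ} (hχ : IsIrrCharacter A χ) {Θ Θ' : D → ℂ} (hΘ : IsIrrCharacter D Θ)
    (hΘ' : IsIrrCharacter D Θ') (ho : Over f χ Θ) (ho' : Over f χ Θ') : ∃ a, ∀ d, Θ' d = Θ (φ a d) := by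
  have := h.normal
  have := Fintype.ofFinite A
  have := Fintype.ofFinite f.range
  obtain ⟨θ, hθ, rfl, h2⟩ := exists_desc f hχ hΘ ho
  obtain ⟨θ', hθ', rfl, h2'⟩ := exists_desc f hχ hΘ' ho'
  obtain ⟨a, rfl⟩ := exists_conj_of_constituents f.range hχ hθ hθ' ((over_subtype_iff _ _ _).1 h2)
    ((over_subtype_iff _ _ _).1 h2')
  exact ⟨a, fun d => by simp only [Function.comp, h.rr]⟩

theorem Nr.over_conj (h : Nr f φ) {χ : A → ℂ} (hχ : IsIrrCharacter A χ) {Θ Θ' : D → ℂ} (hΘ : IsIrrCharacter D Θ)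
    (ho : Over f χ Θ) (a : A) (ha : ∀ d, Θ' d = Θ (φ a d)) : Over f χ Θ' := by
  have := h.normal
  have := Fintype.ofFinite A
  have := Fintype.ofFinite D
  have := Fintype.ofFinite f.range
  obtain ⟨θ, hθ, rfl, h2⟩ := exists_desc f hχ hΘ ho
  have h3 : Θ' = (θ ∘ (MulAut.conjNormal a : MulAut f.range)) ∘ f.rangeRestrict :=
    funext fun d => by rw [ha]; simp only [Function.comp, h.rr]
  rw [over_subtype_iff, ← classInner_restrict_conjNormal (isIrr_isClassFunction hχ) θ a,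
    ← classInner_comp_surj f.rangeRestrict f.rangeRestrict_surjective, ← h3] at h2
  exact (over_iff _ _ _).2 h2

end hom

section comb

/-- the combinatorial part of the pair lemma -/
theorem comb {I J : Type} [Fintype I] [Fintype J] (M : I → J → ℕ) (u a : I → ℕ) (v b : J → ℕ) {c c' : ℕ}
    (hc : 0 < c) (hc' : 0 < c') (hu : ∀ i, 0 < u i) (hv : ∀ j, 0 < v j)
    (h1 : ∀ j, ∑ i, u i * M i j = c * b j) (h2 : ∀ i, ∑ j, v j * M i j = c' * a i)
    (h3 : ∀ i, a i ≠ 0 → u i = a i * c) (h4 : ∀ j, b j ≠ 0 → v j = b j * c') (P : ℕ → Prop) :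
    Nat.card {i // P (a i) ∧ a i ≠ 0} ≤ Nat.card {j // P (b j) ∧ b j ≠ 0} := by
  classical
  have k1 : ∀ i j, M i j ≠ 0 → u i ≤ c * b j := fun i j h =>
    (Nat.le_mul_of_pos_right _ (Nat.pos_of_ne_zero h)).trans
      ((Finset.single_le_sum (f := fun i => u i * M i j) (fun _ _ => Nat.zero_le _) (Finset.mem_univ i)).trans (h1 j).le)
  have k2 : ∀ i j, M i j ≠ 0 → v j ≤ c' * a i := fun i j h =>
    (Nat.le_mul_of_pos_right _ (Nat.pos_of_ne_zero h)).trans
      ((Finset.single_le_sum (f := fun j => v j * M i j) (fun _ _ => Nat.zero_le _) (Finset.mem_univ j)).trans (h2 i).le)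
  have k3 : ∀ i j, M i j ≠ 0 → a i = b j := fun i j h => by
    have e1 := k1 i j h
    have e2 := k2 i j h
    have ha : a i ≠ 0 := fun h0 => by
      rw [h0, mul_zero] at e2
      exact absurd (hv j) (by omega)
    have hb : b j ≠ 0 := fun h0 => by
      rw [h0, mul_zero] at e1
      exact absurd (hu i) (by omega)
    rw [h3 i ha, mul_comm] at e1
    rw [h4 j hb, mul_comm] at e2
    exact le_antisymm (Nat.le_of_mul_le_mul_left e1 hc) (Nat.le_of_mul_le_mul_left e2 hc')
  have k4 : ∀ i, a i ≠ 0 → ∃ j, M i j ≠ 0 := fun i h => by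
    by_contra hcon
    push Not at hcon
    have e := h2 i
    simp only [hcon, mul_zero, Finset.sum_const_zero] at e
    exact Nat.mul_ne_zero hc'.ne' h e.symm
  choose g hg using k4
  refine Nat.card_le_card_of_injective
    (fun i => ⟨g i.1 i.2.2, by rw [← k3 _ _ (hg i.1 i.2.2)]; exact i.2⟩) fun i i' h => ?_
  have e : g i.1 i.2.2 = g i'.1 i'.2.2 := congrArg Subtype.val h
  have m1 := hg i.1 i.2.2
  have m2 := hg i'.1 i'.2.2
  rw [← e] at m2
  generalize g i.1 i.2.2 = j at m1 m2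
  by_contra hne
  have hne' : i.1 ≠ i'.1 := fun h => hne (Subtype.ext h)
  have e1 : u i.1 * M i.1 j + u i'.1 * M i'.1 j ≤ c * b j := by
    rw [← h1, ← Finset.sum_pair (f := fun i => u i * M i j) hne']
    exact Finset.sum_le_sum_of_subset (Finset.subset_univ _)
  rw [← k3 _ _ m1, mul_comm c, ← h3 _ i.2.2] at e1
  have e2 : u i.1 ≤ u i.1 * M i.1 j := Nat.le_mul_of_pos_right _ (Nat.pos_of_ne_zero m1)
  have e3 : 0 < u i'.1 * M i'.1 j := Nat.mul_pos (hu _) (Nat.pos_of_ne_zero m2)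
  omega

end comb

section pair

variable {A F D : Type} [Group A] [Group F] [Group D]

/-- the inner product with the regular character of `A` -/
theorem sum_reg [Finite A] [Fintype F] [Fintype D] [Fintype (IrrCharacter A)] (p : F →* A) (s : D →* F)
    (hs : s.range = p.ker) (Ξ : F → ℂ) :
    ∑ χ : IrrCharacter A, (charDegree (χ : A → ℂ) : ℂ) * classInner Ξ ((χ : A → ℂ) ∘ p) =
      p.range.index * ((Nat.card D : ℂ)⁻¹ * ∑ d, Ξ (s d)) := by
  classical
  have h1 : ∀ x : F, ∑ χ : IrrCharacter A, (charDegree (χ : A → ℂ) : ℂ) * (Ξ x * conj ((χ : A → ℂ) (p x))) =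
      if x ∈ p.ker then Nat.card A * Ξ x else 0 := by
    intro x
    have h2 := Characters.Counting.sum_irr_one_mul (G := A) (p x)⁻¹
    rw [Finset.sum_congr rfl (g := fun χ : IrrCharacter A => Ξ x * ((χ : A → ℂ) 1 * (χ : A → ℂ) (p x)⁻¹))
      (fun χ _ => by rw [coe_charDegree χ.2, isCharacter_apply_inv (isIrr_isCharacter χ.2)]; ring), ← Finset.mul_sum, h2]
    simp only [inv_eq_one, MonoidHom.mem_ker]
    split_ifs
    · ring
    · ring
  have h3 : ∑ x : F, (if x ∈ p.ker then (Nat.card A : ℂ) * Ξ x else 0) = Nat.card A * ∑ x : p.ker, Ξ x := by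
    rw [← Finset.sum_filter, Finset.mul_sum]
    exact Finset.sum_subtype _ (fun x => by simp) _
  let s' : D →* p.ker := s.codRestrict p.ker fun d => hs ▸ ⟨d, rfl⟩
  have hs' : Function.Surjective s' := fun x => by
    obtain ⟨d, hd⟩ : x.1 ∈ s.range := by rw [hs]; exact x.2
    exact ⟨d, Subtype.ext hd⟩
  have h4 : ∑ d, Ξ (s d) = Nat.card s'.ker * ∑ x : p.ker, Ξ x := sum_comp_surj s' hs' fun x => Ξ x
  have h5 : Nat.card D = Nat.card s'.ker * Nat.card p.ker := by
    rw [← card_mul_index s'.ker, index_ker, MonoidHom.range_eq_top.2 hs', card_top]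
  have h6 : Nat.card F = Nat.card p.ker * Nat.card p.range := by rw [← card_mul_index p.ker, index_ker]
  have h7 : Nat.card A = Nat.card p.range * p.range.index := (card_mul_index _).symm
  simp only [classInner_def, Function.comp, Finset.mul_sum]
  rw [Finset.sum_comm]
  rw [Finset.sum_congr rfl (g := fun x => (Nat.card F : ℂ)⁻¹ * if x ∈ p.ker then (Nat.card A : ℂ) * Ξ x else 0)
    (fun x _ => by rw [← h1, Finset.mul_sum]; exact Finset.sum_congr rfl fun χ _ => by ring),
    ← Finset.mul_sum, h3, ← Finset.mul_sum, ← Finset.mul_sum, h4, h5, h6, h7]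
  have n1 : (Nat.card s'.ker : ℂ) ≠ 0 := card_ne_zero_complex
  have n2 : (Nat.card p.ker : ℂ) ≠ 0 := card_ne_zero_complex
  have n3 : (Nat.card p.range : ℂ) ≠ 0 := card_ne_zero_complex
  push_cast
  field_simp

end pair

/-- **the pair lemma** -/
theorem pair {A B F D E : Type} [Group A] [Group B] [Group F] [Group D] [Group E] [Finite A] [Finite B] [Finite F]
    [Finite D] [Finite E] (p : F →* A) (q : F →* B) (s : D →* F) (t : E →* F) (hs : s.range = q.ker)
    (ht : t.range = p.ker) {φ : A → D → D} {φ' : B → E → E} (hφ : Nr (p.comp s) φ) (hφ' : Nr (q.comp t) φ')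
    {Θ : D → ℂ} {Θ' : E → ℂ} (hΘ : IsIrrCharacter D Θ) (hΘ' : IsIrrCharacter E Θ')
    (hp : ∀ a, a ∈ p.range ↔ ∀ d, Θ (φ a d) = Θ d) (hq : ∀ b, b ∈ q.range ↔ ∀ e, Θ' (φ' b e) = Θ' e)
    {Ψ : F → ℂ} (hΨ : IsCharacter F Ψ) (h1 : ∀ d, Ψ (s d) = Θ d * conj (Θ' 1)) (h2 : ∀ e, Ψ (t e) = Θ 1 * conj (Θ' e))
    (ho : Odd (p.range.index * charDegree Θ) ↔ Odd (q.range.index * charDegree Θ')) :
    Nat.card {χ : A → ℂ // OI A χ ∧ Over (p.comp s) χ Θ} = Nat.card {η : B → ℂ // OI B η ∧ Over (q.comp t) η Θ'} := by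
  classical
  have := Fintype.ofFinite F
  have := Fintype.ofFinite D
  have := Fintype.ofFinite E
  have := finite_irr (G := A)
  have := finite_irr (G := B)
  have := Fintype.ofFinite (IrrCharacter A)
  have := Fintype.ofFinite (IrrCharacter B)
  choose M hM using fun (χ : IrrCharacter A) (η : IrrCharacter B) => classInner_isNat
    (isCharacter_mul hΨ (isCharacter_comp q (isIrr_isCharacter η.2))) (isCharacter_comp p (isIrr_isCharacter χ.2))
  have hM' : ∀ (χ : IrrCharacter A) (η : IrrCharacter B),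
      classInner ((fun x => conj (Ψ x)) * ((χ : A → ℂ) ∘ p)) ((η : B → ℂ) ∘ q) = M χ η := fun χ η => by
    rw [← Complex.conj_natCast, ← hM, classInner_def, classInner_def, map_mul, map_inv₀, map_natCast, map_sum]
    congr 1
    refine Finset.sum_congr rfl fun x _ => ?_
    simp only [Pi.mul_apply, map_mul, Complex.conj_conj]
    ring
  choose a ha using fun χ : IrrCharacter A =>
    classInner_isNat (isCharacter_comp (p.comp s) (isIrr_isCharacter χ.2)) (isIrr_isCharacter hΘ)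
  choose b hb using fun η : IrrCharacter B =>
    classInner_isNat (isCharacter_comp (q.comp t) (isIrr_isCharacter η.2)) (isIrr_isCharacter hΘ')
  have hc : 0 < p.range.index * charDegree Θ :=
    Nat.mul_pos (Nat.pos_of_ne_zero index_ne_zero_of_finite) (charDegree_pos hΘ)
  have hc' : 0 < q.range.index * charDegree Θ' :=
    Nat.mul_pos (Nat.pos_of_ne_zero index_ne_zero_of_finite) (charDegree_pos hΘ')
  have s1 : ∀ η, ∑ χ : IrrCharacter A, charDegree (χ : A → ℂ) * M χ η = p.range.index * charDegree Θ * b η := fun η => by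
    have h := sum_reg p t ht (Ψ * ((η : B → ℂ) ∘ q))
    simp only [hM] at h
    have h' : (Nat.card E : ℂ)⁻¹ * ∑ d, (Ψ * ((η : B → ℂ) ∘ q)) (t d) = charDegree Θ * b η := by
      rw [← hb, classInner_def, coe_charDegree hΘ, mul_left_comm, Finset.mul_sum _ _ (Θ 1)]
      congr 1
      refine Finset.sum_congr rfl fun e _ => ?_
      simp only [Pi.mul_apply, h2, Function.comp, MonoidHom.comp_apply]
      ring
    rw [h', ← mul_assoc] at h
    exact_mod_cast h
  have s2 : ∀ χ, ∑ η : IrrCharacter B, charDegree (η : B → ℂ) * M χ η = q.range.index * charDegree Θ' * a χ := fun χ => by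
    have h := sum_reg q s hs ((fun x => conj (Ψ x)) * ((χ : A → ℂ) ∘ p))
    simp only [hM'] at h
    have h' : (Nat.card D : ℂ)⁻¹ * ∑ d, ((fun x => conj (Ψ x)) * ((χ : A → ℂ) ∘ p)) (s d) = charDegree Θ' * a χ := by
      rw [← ha, classInner_def, coe_charDegree hΘ', mul_left_comm, Finset.mul_sum _ _ (Θ' 1)]
      congr 1
      refine Finset.sum_congr rfl fun e _ => ?_
      simp only [Pi.mul_apply, h1, Function.comp, MonoidHom.comp_apply, map_mul, Complex.conj_conj]
      ring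
    rw [h', ← mul_assoc] at h
    exact_mod_cast h
  have d1 : ∀ χ, a χ ≠ 0 → charDegree (χ : A → ℂ) = a χ * (p.range.index * charDegree Θ) := fun χ h =>
    hφ.deg_eq χ.2 hΘ hp (ha χ) h
  have d2 : ∀ η, b η ≠ 0 → charDegree (η : B → ℂ) = b η * (q.range.index * charDegree Θ') := fun η h =>
    hφ'.deg_eq η.2 hΘ' hq (hb η) h
  let P : ℕ → Prop := fun n => Odd n ∧ Odd (p.range.index * charDegree Θ)
  have e1 : Nat.card {χ : A → ℂ // OI A χ ∧ Over (p.comp s) χ Θ} = Nat.card {χ // P (a χ) ∧ a χ ≠ 0} := by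
    have k : ∀ χ : IrrCharacter A, Over (p.comp s) χ Θ ↔ a χ ≠ 0 := fun χ => by rw [over_iff, ha, Nat.cast_ne_zero]
    exact Nat.card_congr
      { toFun := fun χ => ⟨⟨χ.1, χ.2.1.1⟩, Nat.odd_mul.1 (d1 _ ((k ⟨χ.1, χ.2.1.1⟩).1 χ.2.2) ▸ χ.2.1.2),
          (k ⟨χ.1, χ.2.1.1⟩).1 χ.2.2⟩
        invFun := fun χ => ⟨χ.1.1, ⟨χ.1.2, (d1 _ χ.2.2).symm ▸ Nat.odd_mul.2 χ.2.1⟩, (k χ.1).2 χ.2.2⟩
        left_inv := fun _ => rfl
        right_inv := fun _ => rfl }
  have e2 : Nat.card {η : B → ℂ // OI B η ∧ Over (q.comp t) η Θ'} = Nat.card {η // P (b η) ∧ b η ≠ 0} := by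
    have k : ∀ η : IrrCharacter B, Over (q.comp t) η Θ' ↔ b η ≠ 0 := fun η => by rw [over_iff, hb, Nat.cast_ne_zero]
    have k' : ∀ n, P n ↔ Odd (n * (q.range.index * charDegree Θ')) := fun n => by rw [Nat.odd_mul, ← ho]
    exact Nat.card_congr
      { toFun := fun η => ⟨⟨η.1, η.2.1.1⟩, (k' _).2 (d2 _ ((k ⟨η.1, η.2.1.1⟩).1 η.2.2) ▸ η.2.1.2),
          (k ⟨η.1, η.2.1.1⟩).1 η.2.2⟩
        invFun := fun η => ⟨η.1.1, ⟨η.1.2, (d2 _ η.2.2).symm ▸ (k' _).1 η.2.1⟩, (k η.1).2 η.2.2⟩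
        left_inv := fun _ => rfl
        right_inv := fun _ => rfl }
  rw [e1, e2]
  exact le_antisymm
    (comb M _ a _ b hc hc' (fun χ => charDegree_pos χ.2) (fun η => charDegree_pos η.2) s1 s2 d1 d2 P)
    (comb (fun η χ => M χ η) _ b _ a hc' hc (fun η => charDegree_pos η.2) (fun χ => charDegree_pos χ.2) s2 s1 d2 d1 P)

end Cfsg.Agent.MK.C
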